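import Cfsg.Agent.Lib.Comp.Fast

set_option maxRecDepth 100000
set_option Elab.async false

namespace Cfsg.Lib.Comp.L28x

universe u

def iv : ℕ → ℕ := (fun x => x)

noncomputable def R : List (List ℕ × ℕ) := [([1],1),
 ([2],1),
 ([1,2],8),
 ([3],1),
 ([1,3],1),
 ([2,3],2),
 ([1,2,3],6)]

def L : List ℕ := [1,2,3]

end Cfsg.Lib.Comp.L28x
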