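import Cfsg.Agent.Lib.Comp.L28x.Perm

set_option maxRecDepth 100000
set_option Elab.async false

namespace Cfsg.Lib.Comp.L28x

universe u

noncomputable def T0_R : List (List ℕ × ℕ) := [([1],1),
 ([2],1),
 ([1,2],8),
 ([3],1),
 ([1,3],1),
 ([2,3],2),
 ([1,2,3],6)]

theorem nets_rel_T0 : Rels (gp nets) T0_R := nets_rel.mono (by decide +kernel)

theorem T0_fin : finB 32 nets [1,2,3] 28 (runH 32 nets (fun x p => ptInv (nth Net.nil nets x) p) iv T0_R [] ([1,2].map fun x => [x]) 0 []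
  [1,5,0,4,12,16,20,16,20,24,0,8,16,20,16,8]
  (defsH 32 nets (ones 128) [3,2,1,2,3,1,2,3,1,2,3,1,2,3,1] (Nat.shiftLeft 1 0) 0)) = true := by decide +kernel

theorem T0_idx : Idx.{u} iv (T0_R ++ []) ([1,2].map fun x => [x]) [1,2,3] 28 :=
  Reach.idx nets_ok (reach_runH nets_ok (fun x p _ => ptInv_gp nets_ok x p) nets_rel_T0 (reach_defsH nets_ok _ _ _ _ _ _) _ _) T0_fin (by norm_num)

end Cfsg.Lib.Comp.L28x
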