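import Cfsg.Agent.Lib.Comp.L28x.Perm
import Cfsg.Agent.Lib.Comp.PermGrp
import Cfsg.Agent.Lib.Comp.Bridge2
import Cfsg.Agent.Lib.Comp.L28x.T0
import Cfsg.Agent.Lib.Comp.L28x.T1
import Cfsg.Agent.Lib.Comp.L28x.T2

set_option maxRecDepth 100000
set_option Elab.async false

namespace Cfsg.Lib.Comp.L28x

universe u

theorem T2_ord : Ord.{u} iv T2_R [1] 2 :=
  (T2_idx.ord_base).of_cons (cons_of_subset (by decide +kernel))

theorem T1_ord : Ord.{u} iv T1_R [1,2] 18 :=
  (T1_idx.ord_step T2_ord).of_cons (cons_of_subset (by decide +kernel))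

theorem T0_ord : Ord.{u} iv T0_R [1,2,3] 504 :=
  (T0_idx.ord_step T1_ord).of_cons (cons_of_subset (by decide +kernel))

theorem ord : Ord.{u} iv R L 504 := T0_ord.of_cons (cons_of_subset (by decide +kernel))

theorem card : Nat.card (cl (gp nets) L) = 504 := card_of_ord ord nets_iv nets_rel lb

noncomputable def nc_h : ℕ := (nat_lit 0x30000000000000002000000000000000000000200000000030000020000000001000002000002000000000400000200010000000000000000000000000001000200000100000400010000020000040003000000000004000300000100000200020000000000020001000000000001)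

noncomputable def nc_c : List ℕ := [(nat_lit 0x2b00002d001e0200000500002d00120200000500002500000700001d00000500002500000700001d00000500002500000700001d00000500002500000700001d00000500002500161200000d000021001e02000011000021000e0200000700001900001500120300000100001b000e0200001500000f00000500000b00001500000f002c0600000f00000100040200000f00000500060200000000000700000100020200000000000000000e)]

theorem nc_b : goalB 1 (fun _ p => p) iv (allCodes iv (([3,1,2], 0) :: R)) (fun t => look nc_h 64 t, nc_c) 0 [([1],1,(nat_lit 0x1d)),
 ([2],1,(nat_lit 0x31)),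
 ([3],1,(nat_lit 0x35))] (msk []) = true := by decide +kernel

theorem nc : Mem.{u} iv (([3,1,2], 0) :: R) ([].map fun x => [x]) [[1],
 [2],
 [3]] := mem_of_goalB nc_b

noncomputable def subs : List (List ℕ × ℕ) := [([2,1,2,1,2,1,2,1],9),
 ([1,2,1,2,1,2,1],9),
 ([2,1,2,1,2,1,2,1],9)]

theorem simpleB : cnd (transB nets L [3,2,1,2,1,3,2,1,2,1,3,2,1,2,3] 28) (cnd (fxB 32 5 28 nets L)
  (cnd (invB nets [1,2] (Nat.shiftLeft 1 0)) (subsB nets [1,2] subs 1) false) false) false = true := by decide +kernel

theorem simple : IsSimpleGroup (cl (gp nets) L) :=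
  simple_perm nets_ok (by norm_num) (by norm_num) nets_iv nets_rel (by decide +kernel) (fun x hx => mem_all (sub_of_subB (by decide +kernel) x hx)) simpleB (by decide +kernel)
    (p := 7) (a := 1) (m := 72) (j := 1) (by norm_num) (card.trans (by norm_num)) (by norm_num) (by norm_num) (by decide +kernel)
    (w := [3,1,2]) (by decide +kernel) (eq_of_eqB (k := 5) (e := 6) (w := []) nets_ok (by norm_num) (by decide +kernel)) nc

end Cfsg.Lib.Comp.L28x
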