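import Cfsg.Agent.Lib.Comp.L28x.Main
import Cfsg.Agent.Lib.MatB.ChevC
import Cfsg.Agent.Lib.Twist.TwG2
import Cfsg.Agent.Lib.MatB.Idx

set_option maxRecDepth 100000
set_option Elab.async false

namespace Cfsg.Lib.Comp.L28x

open Cfsg.Lib.MatB Cfsg.Lie Matrix

universe u

def mT0 : List ℕ := [nat_lit 0x1, nat_lit 0x100, nat_lit 0x10000, nat_lit 0x1000000, nat_lit 0x100000000, nat_lit 0x10000000000, nat_lit 0x1000000000000, nat_lit 0x100000000000000, nat_lit 0x10000000000000000, nat_lit 0x1000000000000000000, nat_lit 0x100000000000000000000, nat_lit 0x10000000000000000000000, nat_lit 0x1000000000000000000000000, nat_lit 0x100000000000000000000000000]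
def mT1 : List ℕ := [nat_lit 0x1010201000001, nat_lit 0x100000001020100, nat_lit 0x20000, nat_lit 0x1020000, nat_lit 0x201010000, nat_lit 0x10202000000, nat_lit 0x2010100020000, nat_lit 0x200000001010000, nat_lit 0x20100000000010200, nat_lit 0x2000101000101020202, nat_lit 0x101020200020000010002, nat_lit 0x20201020101000200020101, nat_lit 0x1000000010000000002000200, nat_lit 0x202000000010100000000020100]
def mT2 : List ℕ := [nat_lit 0x100020001, nat_lit 0x10100, nat_lit 0x20000, nat_lit 0x1000000, nat_lit 0x200000000, nat_lit 0x10000020000, nat_lit 0x2000001000000, nat_lit 0x200000000000000, nat_lit 0x20000000001000000, nat_lit 0x2000000010000010000, nat_lit 0x100000001000201000000, nat_lit 0x20000000000020100010002, nat_lit 0x1000000000100000000020000, nat_lit 0x200000000000000000002010200]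
def mT3 : List ℕ := [nat_lit 0x102000202010101020102010202, nat_lit 0x2000000020100000002010200, nat_lit 0x102000000020000000001010000, nat_lit 0x200000000020100000001000100, nat_lit 0x202010202010100010102020000, nat_lit 0x202020002010201010002020101, nat_lit 0x202020201000001010100010001, nat_lit 0x202000000010100000001010100, nat_lit 0x1000000010200000000010200, nat_lit 0x101000102000101010102, nat_lit 0x202010101020200020000020001, nat_lit 0x101010001010201000100020102, nat_lit 0x101000000010000000002000100, nat_lit 0x100000000010100000000010200]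
def mT4 : List ℕ := [nat_lit 0x1000001010001, nat_lit 0x100000000000100, nat_lit 0x10000, nat_lit 0x1020000, nat_lit 0x102000000, nat_lit 0x10202000000, nat_lit 0x1020101000000, nat_lit 0x100000002010000, nat_lit 0x10200000000010100, nat_lit 0x1000002000102000101, nat_lit 0x101020002000201000101, nat_lit 0x10100010002020101000000, nat_lit 0x1000000010200000000020100, nat_lit 0x101000000000200000002010000]
def mT5 : List ℕ := [nat_lit 0x101000001000000000000000001, nat_lit 0x10000000000000100, nat_lit 0x102000000020000000001010000, nat_lit 0x200000000020100000001000100, nat_lit 0x1010202000100010100000000, nat_lit 0x1020002000201010000000101, nat_lit 0x2010002000001000000000101, nat_lit 0x100000000020100000000000100, nat_lit 0x102000000010000000000000000, nat_lit 0x1010201000000000000000000, nat_lit 0x2020100000000000000000000, nat_lit 0x2010000000000000000000000, nat_lit 0x201000000000000000000000000, nat_lit 0x100000000000000000000000000]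
def mT6 : List ℕ := [nat_lit 0x1000000000001, nat_lit 0x100, nat_lit 0x10000, nat_lit 0x1000000, nat_lit 0x102000000, nat_lit 0x10202000000, nat_lit 0x1000000000000, nat_lit 0x100000002000000, nat_lit 0x10000000000000000, nat_lit 0x1000002000000000101, nat_lit 0x100020000000000000000, nat_lit 0x10100010000000000000000, nat_lit 0x1000000010000000000000000, nat_lit 0x100000000000000000000000000]
def mT7 : List ℕ := [nat_lit 0x1, nat_lit 0x100000000000100, nat_lit 0x10000, nat_lit 0x1020000, nat_lit 0x100000000, nat_lit 0x10000000000, nat_lit 0x1020000000000, nat_lit 0x100000000000000, nat_lit 0x10200000000000100, nat_lit 0x1000000000000000000, nat_lit 0x101000000000000000000, nat_lit 0x10000000000000000000000, nat_lit 0x1000000000000000000000000, nat_lit 0x101000000000000000000000000]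
def mT8 : List ℕ := [nat_lit 0x10000000001, nat_lit 0x100, nat_lit 0x10000, nat_lit 0x1000000, nat_lit 0x100020000, nat_lit 0x10000000000, nat_lit 0x1000100010000, nat_lit 0x100000000000000, nat_lit 0x10000000000010000, nat_lit 0x1000200000000000000, nat_lit 0x100000000020000000201, nat_lit 0x10002000200000000000000, nat_lit 0x1000000000000000000000000, nat_lit 0x100000000000200000000000000]
def mT9 : List ℕ := [nat_lit 0x200000001, nat_lit 0x100, nat_lit 0x10000, nat_lit 0x1000000, nat_lit 0x100000000, nat_lit 0x10000010000, nat_lit 0x1000001000000, nat_lit 0x100000000000000, nat_lit 0x10000000000000000, nat_lit 0x1000000010000020000, nat_lit 0x100000002000001000000, nat_lit 0x10000000000000200000002, nat_lit 0x1000000000000000000010000, nat_lit 0x100000000000000000002000000]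
def mT10 : List ℕ := [nat_lit 0x1, nat_lit 0x100, nat_lit 0x10000, nat_lit 0x1000000, nat_lit 0x100000000, nat_lit 0x10000000000, nat_lit 0x1000000000000, nat_lit 0x100000000000000, nat_lit 0x10000000000000000, nat_lit 0x1000000000000000000, nat_lit 0x100000000000000000000, nat_lit 0x10000000000000000000000, nat_lit 0x1000000000000000000000000, nat_lit 0x100000000000000000000000000]
def mT11 : List ℕ := [nat_lit 0x1, nat_lit 0x100, nat_lit 0x10000, nat_lit 0x1000000, nat_lit 0x100000000, nat_lit 0x10000000000, nat_lit 0x1000000000000, nat_lit 0x100000000000000, nat_lit 0x10000000000000000, nat_lit 0x1000000000000000000, nat_lit 0x100000000000000000000, nat_lit 0x10000000000000000000000, nat_lit 0x1000000000000000000000000, nat_lit 0x100000000000000000000000000]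
def mT12 : List ℕ := [nat_lit 0x1000000000000000001, nat_lit 0x100, nat_lit 0x10000, nat_lit 0x100000001000000, nat_lit 0x100010100000000, nat_lit 0x200010000000000, nat_lit 0x2000001000000000101, nat_lit 0x100000000000000, nat_lit 0x2000000010000000000000000, nat_lit 0x1000000000000000000, nat_lit 0x2020100000000000000000000, nat_lit 0x2010000000000000000000000, nat_lit 0x1000000000000000000000000, nat_lit 0x100000000000000000000000000]
def mT13 : List ℕ := [nat_lit 0x1, nat_lit 0x10000000000000100, nat_lit 0x1010000, nat_lit 0x1000000, nat_lit 0x100000000, nat_lit 0x1010000000000, nat_lit 0x1000000000000, nat_lit 0x20100000000000100, nat_lit 0x10000000000000000, nat_lit 0x201000000000000000000, nat_lit 0x100000000000000000000, nat_lit 0x10000000000000000000000, nat_lit 0x201000000000000000000000000, nat_lit 0x100000000000000000000000000]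
def mT14 : List ℕ := [nat_lit 0x100000000000000000001, nat_lit 0x100, nat_lit 0x20000000000010000, nat_lit 0x1000000, nat_lit 0x20002000100000000, nat_lit 0x200000000010000000201, nat_lit 0x20001000000000000, nat_lit 0x100000000000100000000000000, nat_lit 0x10000000000000000, nat_lit 0x100010001000000000000000000, nat_lit 0x100000000000000000000, nat_lit 0x200010000000000000000000000, nat_lit 0x1000000000000000000000000, nat_lit 0x100000000000000000000000000]
def mT15 : List ℕ := [nat_lit 0x20000000000000000000001, nat_lit 0x100, nat_lit 0x2000000000000000000010000, nat_lit 0x100000000000000000001000000, nat_lit 0x20000000000000100000002, nat_lit 0x1000002000000010000000000, nat_lit 0x200000100000001000000000000, nat_lit 0x100000000000000, nat_lit 0x10000000000000000, nat_lit 0x1000001000000000000000000, nat_lit 0x100000100000000000000000000, nat_lit 0x10000000000000000000000, nat_lit 0x1000000000000000000000000, nat_lit 0x100000000000000000000000000]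
def mT16 : List ℕ := [nat_lit 0x1, nat_lit 0x100, nat_lit 0x10000, nat_lit 0x1000000, nat_lit 0x100000000, nat_lit 0x10000000000, nat_lit 0x1000000000000, nat_lit 0x100000000000000, nat_lit 0x10000000000000000, nat_lit 0x1000000000000000000, nat_lit 0x100000000000000000000, nat_lit 0x10000000000000000000000, nat_lit 0x1000000000000000000000000, nat_lit 0x100000000000000000000000000]
def mT17 : List ℕ := [nat_lit 0x1, nat_lit 0x100, nat_lit 0x10000, nat_lit 0x1000000, nat_lit 0x100000000, nat_lit 0x10000000000, nat_lit 0x1000000000000, nat_lit 0x100000000000000, nat_lit 0x10000000000000000, nat_lit 0x1000000000000000000, nat_lit 0x100000000000000000000, nat_lit 0x10000000000000000000000, nat_lit 0x1000000000000000000000000, nat_lit 0x100000000000000000000000000]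

def mtabs : List (List ℕ) := [mT0, mT1, mT2, mT3, mT4, mT5, mT6, mT7, mT8, mT9, mT10, mT11, mT12, mT13, mT14, mT15, mT16, mT17]

noncomputable def mtab : ℕ → List ℕ := nth mT0 mtabs

noncomputable def mrd : ℕ → ℕ := red 8 3 14

theorem mctx : Ctx 8 3 14 14 (0 : (ZMod 3)) (eSum chevG2.rank chevG2.nroots) mrd :=
  ⟨by decide +kernel, by decide +kernel, by decide +kernel, Or.inr ⟨rfl, rfl⟩, by decide +kernel, by norm_num, by norm_num,
    fun _ => rfl⟩

theorem mok : ∀ x, TabOK 8 14 14 (0 : (ZMod 3)) mrd (mtab x) := tabOK_nth (by decide +kernel)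

noncomputable abbrev mM (x : ℕ) : Matrix (chevG2.Idx) (chevG2.Idx) (ZMod 3) := tm 8 14 (0 : (ZMod 3)) (eSum chevG2.rank chevG2.nroots) (mtab x)

def mR0 : List (List ℕ × ℕ) := [([1], 1), ([1], 1), ([2], 1), ([2], 1), ([1, 2], 8), ([3], 1), ([3], 1), ([1, 3], 1), ([2, 3], 2), ([1, 2, 3], 6)]

theorem mrel0 : relB 8 14 mrd mtab [0] mR0 = true := by decide +kernel

def mR1 : List (List ℕ × ℕ) := [([1, 1], 0), ([2, 2], 0), ([3, 3], 0)]

theorem mrel1 : relB 8 14 mrd mtab [0] mR1 = true := by decide +kernel

def mR : List (List ℕ × ℕ) := mR0 ++ (mR1)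

theorem mside : SideOK iv R mR L := by decide +kernel

theorem mrel : ∀ r ∈ mR, ∃ z ∈ [0], ev mM r.1 ^ (r.2 + 1) = mM z :=
  List.forall_mem_append.2 ⟨mctx.rel mok mrel0, mctx.rel mok mrel1⟩

theorem mroot6 : RootOK chevG2 mM [(6, 7, (1 : (ZMod 3)))] :=
  .single (by decide) (by decide +kernel) (by decide +kernel)

theorem mroot7 : RootOK chevG2 mM [(7, 6, (1 : (ZMod 3)))] :=
  .single (by decide) (by decide +kernel) (by decide +kernel)

theorem mroot8 : RootOK chevG2 mM [(8, 8, (1 : (ZMod 3)))] :=
  .single (by decide) (by decide +kernel) (by decide +kernel)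

theorem mroot9 : RootOK chevG2 mM [(9, 9, (1 : (ZMod 3)))] :=
  .single (by decide) (by decide +kernel) (by decide +kernel)

theorem mroot10 : RootOK chevG2 mM [(10, 10, (0 : (ZMod 3)))] :=
  .single (by decide) (by decide +kernel) (by decide +kernel)

theorem mroot11 : RootOK chevG2 mM [(11, 11, (0 : (ZMod 3)))] :=
  .single (by decide) (by decide +kernel) (by decide +kernel)

theorem mroot12 : RootOK chevG2 mM [(12, 4, (2 : (ZMod 3)))] :=
  .single (by decide) (by decide +kernel) (by decide +kernel)

theorem mroot13 : RootOK chevG2 mM [(13, 5, (2 : (ZMod 3)))] :=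
  .single (by decide) (by decide +kernel) (by decide +kernel)

theorem mroot14 : RootOK chevG2 mM [(14, 3, (2 : (ZMod 3)))] :=
  .single (by decide) (by decide +kernel) (by decide +kernel)

theorem mroot15 : RootOK chevG2 mM [(15, 2, (2 : (ZMod 3)))] :=
  .single (by decide) (by decide +kernel) (by decide +kernel)

theorem mroot16 : RootOK chevG2 mM [(16, 1, (0 : (ZMod 3)))] :=
  .single (by decide) (by decide +kernel) (by decide +kernel)

theorem mroot17 : RootOK chevG2 mM [(17, 0, (0 : (ZMod 3)))] :=
  .single (by decide) (by decide +kernel) (by decide +kernel)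

theorem mgen0 : ∃ a : twistedG2 (ZMod 3) 1, (Units.coeHom _).comp (twistedG2 (ZMod 3) 1).subtype a = (mM 4).map (RingHom.id _) :=
  (mroot6.append (mroot7.append (mroot8.append (mroot9.append (mroot10.append (mroot11)))))).gen mctx mok (S := g2Words (ZMod 3) 1) (⟨1, 0, 0, .inl (by decide +kernel)⟩) (u := [4, 4, 4, 4, 4, 4, 4, 4]) (by decide +kernel) (by decide +kernel)

theorem mgen1 : ∃ a : twistedG2 (ZMod 3) 1, (Units.coeHom _).comp (twistedG2 (ZMod 3) 1).subtype a = (mM 5).map (RingHom.id _) :=
  (mroot12.append (mroot13.append (mroot14.append (mroot15.append (mroot16.append (mroot17)))))).gen mctx mok (S := g2Words (ZMod 3) 1) (⟨1, 0, 0, .inr (by decide +kernel)⟩) (u := [5, 5, 5, 5, 5, 5, 5, 5]) (by decide +kernel) (by decide +kernel)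

theorem mgen : ∀ x ∈ [4, 5], ∃ a : twistedG2 (ZMod 3) 1, (Units.coeHom _).comp (twistedG2 (ZMod 3) 1).subtype a = (mM x).map (RingHom.id _) := by
  simp only [List.forall_mem_cons]; exact ⟨mgen0, mgen1, by simp⟩

theorem mdef0 : defB 8 14 mrd mtab [4, 5] [(1, [5, 4, 4, 4, 4, 4, 4, 4, 4, 5, 5, 5, 5, 4, 4, 4, 4, 4, 4, 4, 4]), (2, [4, 4, 5, 4, 4, 4, 4, 4, 4, 4, 4, 5, 5, 5, 5]), (3, [4, 5, 5, 5, 5, 5, 5, 5, 5, 4, 4, 4, 4, 4, 4, 4, 4, 4, 4, 4, 4, 4, 4, 4, 4, 5, 4])] = true := by decide +kernel

theorem mmem : ∀ x ∈ [1, 2, 3], ∃ a : twistedG2 (ZMod 3) 1, (Units.coeHom _).comp (twistedG2 (ZMod 3) 1).subtype a = (mM x).map (RingHom.id _) :=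
  mctx.mem mok mdef0 _ _ mgen

theorem emb : ∃ f : cl (gp nets) L →* twistedG2 (ZMod 3) 1, Function.Injective f :=
  have := simple
  bridge_ex nets_iv nets_rel ord card mside (RingHom.id _) (fun _ _ h => h) _ (gl_inj (twistedG2 (ZMod 3) 1)) (M := mM)
    mmem (by decide +kernel) mrel
    (x := 1) (y := 2) (by decide) (by decide) (i := .inl ⟨0, by decide⟩) (j := .inr ⟨0, by decide⟩) (by decide +kernel)

theorem iso : Nonempty (cl (gp nets) L ≃* commutator (twistedG2 (ZMod 3) 1)) := by
  obtain ⟨f, hf⟩ := emb
  have := simple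
  have := nets_ok.finite L
  obtain ⟨d⟩ := Twist.exists_G2Data (K := ZMod 3) (m := 0) (by simp)
  refine iso_comm_prime (p := 3) (by rw [card]; norm_num) hf (by norm_num) ?_ (by rw [card]; decide)
  have h := d.card_G
  rw [card]
  simpa using h

end Cfsg.Lib.Comp.L28x
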