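import Cfsg.Agent.Lib.Comp.L28x.Main
import Cfsg.Agent.Lib.MatB.Fam
import Cfsg.Agent.S0243

set_option maxRecDepth 100000

namespace Cfsg.Lib.Comp.L28x

open Cfsg.Lib.MatB Matrix

universe u

/-- The field with eight elements: `a + b ω + c ω²` with `ω³ = ω + 1`. -/
@[ext] structure K8 where
  a : ZMod 2
  b : ZMod 2
  c : ZMod 2
  deriving DecidableEq

/-- Coordinates. -/
def K8.eqv : K8 ≃ ZMod 2 × ZMod 2 × ZMod 2 :=
  ⟨fun u => (u.a, u.b, u.c), fun x => ⟨x.1, x.2.1, x.2.2⟩, fun _ => rfl, fun _ => rfl⟩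

instance K8.instFintype : Fintype K8 := Fintype.ofEquiv _ K8.eqv.symm
instance K8.instAdd : Add K8 := ⟨fun u v => ⟨u.a + v.a, u.b + v.b, u.c + v.c⟩⟩
instance K8.instMul : Mul K8 := ⟨fun u v => ⟨u.a * v.a + u.b * v.c + u.c * v.b,
  u.a * v.b + u.b * v.a + u.b * v.c + u.c * v.b + u.c * v.c, u.a * v.c + u.b * v.b + u.c * v.a + u.c * v.c⟩⟩
instance K8.instNeg : Neg K8 := ⟨fun u => u⟩
instance K8.instZero : Zero K8 := ⟨⟨0, 0, 0⟩⟩
instance K8.instOne : One K8 := ⟨⟨1, 0, 0⟩⟩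

instance K8.instCommRing : CommRing K8 :=
  CommRing.ofMinimalAxioms (by decide +kernel) (by decide +kernel) (by decide +kernel) (by decide +kernel)
    (by decide +kernel) (by decide +kernel) (by decide +kernel)

theorem hom8 {F : Type*} [Field F] [Fintype F] (h : Fintype.card F = 8) :
    ∃ φ : K8 →+* F, Function.Injective φ := by
  have : Nontrivial K8 := ⟨0, 1, by decide⟩
  let _ : Field K8 := Field.ofIsUnitOrEqZero fun a => by
    have : ∀ a : K8, (∃ b, a * b = 1) ∨ a = 0 := by decide +kernel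
    exact (this a).imp_left fun ⟨b, hb⟩ => IsUnit.of_mul_eq_one b hb
  obtain ⟨φ⟩ := exists_hom (F := F) K8 (by rw [h, Nat.card_eq_fintype_card]; rfl)
  exact ⟨φ, φ.injective⟩

/-- Generators of `SL₂(8)`. -/
def m8 : ℕ → Matrix (Fin 2) (Fin 2) K8 :=
  fun x => [1, !![0, 1; 1, 0], !![1, 0; ⟨0, 1, 0⟩, 1], !![⟨0, 0, 1⟩, ⟨1, 0, 1⟩; ⟨1, 0, 1⟩, ⟨0, 0, 1⟩]].getD x 1

theorem isoL {F : Type u} [Field F] [Fintype F] (hF : Fintype.card F = 8) :
    Nonempty (cl (gp nets) L ≃* ProjectiveSpecialLinearGroup (Fin 2) F) := by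
  obtain ⟨φ, hφ⟩ := hom8 hF
  have := simple
  have := nets_ok.finite L
  refine bridge_proj nets_iv nets_rel ord card (Rz := R ++ L.map fun x => ([x, x], 0)) (by decide +kernel) φ hφ SpecialLinearGroup.coeMonoidHom
    Subtype.val_injective (M := m8) (fun x hx => sl_mem φ (by revert x; decide +kernel)) (Z := [0])
    (by decide +kernel) (by decide +kernel) (x := 1) (y := 2) (by decide) (by decide) (i := 0) (j := 0)
    (by decide +kernel) ?_
  have h := Cfsg.Agent.S0243.result hF 2 (by norm_num)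
  change Nat.card (ProjectiveSpecialLinearGroup (Fin 2) F) = _
  norm_num [Fin.prod_univ_succ] at h
  omega

end Cfsg.Lib.Comp.L28x
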