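import Cfsg.Agent.Lib.Comp.L28x.Base

set_option maxRecDepth 100000
set_option Elab.async false

namespace Cfsg.Lib.Comp.L28x

universe u

noncomputable def nets_1 : Net :=
 (Net.cons 16 (nat_lit 0x8000)
 (Net.cons 8 (nat_lit 0xc00000)
 (Net.cons 4 (nat_lit 0x80000)
 (Net.cons 2 (nat_lit 0x2000)
 (Net.cons 1 (nat_lit 0x45154554)
 (Net.cons 2 (nat_lit 0x32000)
 (Net.cons 4 (nat_lit 0x80000)
 (Net.cons 8 (nat_lit 0xc00000)
 (Net.cons 16 (nat_lit 0x8000)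
 Net.nil)))))))))

noncomputable def nets_2 : Net :=
 (Net.cons 16 (nat_lit 0x6440)
 (Net.cons 8 (nat_lit 0xf00042)
 (Net.cons 4 (nat_lit 0xa040808)
 (Net.cons 2 (nat_lit 0x2002020)
 (Net.cons 1 (nat_lit 0x11001114)
 (Net.cons 2 (nat_lit 0x2012020)
 (Net.cons 4 (nat_lit 0xa060c0a)
 (Net.cons 8 (nat_lit 0xfc0042)
 (Net.cons 16 (nat_lit 0x6440)
 Net.nil)))))))))

noncomputable def nets_3 : Net :=
 (Net.cons 16 (nat_lit 0xf18)
 (Net.cons 8 (nat_lit 0xc00052)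
 (Net.cons 4 (nat_lit 0x402)
 (Net.cons 2 (nat_lit 0x2002)
 (Net.cons 1 (nat_lit 0x44004551)
 (Net.cons 2 (nat_lit 0x20230)
 (Net.cons 4 (nat_lit 0xc010809)
 (Net.cons 8 (nat_lit 0xc000b1)
 (Net.cons 16 (nat_lit 0xf1c)
 Net.nil)))))))))

noncomputable def nets : List Net := [Net.nil,
 nets_1,
 nets_2,
 nets_3]

theorem nets_ok : NetsOK 32 nets := netsOK_of (by decide +kernel)

theorem nets_rel : Rels (gp nets) R := rels_of_relsB (k := 5) nets_ok (by norm_num) (by decide +kernel)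

theorem nets_iv : IvOK (gp nets) iv := ivOK_of_ivB (k := 5) nets_ok (by norm_num) (by decide +kernel)

noncomputable def slp : List (ℕ × List ℕ) := []

theorem slp_ok : slpB 32 5 nets slp L = true := by decide +kernel

theorem mem_all {x : ℕ} (h : x ∈ L ++ slp.map (·.1)) : gp nets x ∈ cl (gp nets) L :=
  cl_eq_of_slpB nets_ok (by norm_num) slp_ok ▸ mem_cl h

theorem lb : 504 ≤ Nat.card (cl (gp nets) L) := by
  rw [← cl_eq_of_slpB nets_ok (by norm_num) slp_ok]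
  exact lb_of_chainB nets_ok (C := [([1,2],[3,2,1,2,1,3,2,1,2,1,3,2,1,2,3],0,0,28),
 ([1],[2,1,2,1,2,1,2,1],1,1,9),
 ([],[1],10,10,2)]) (by decide +kernel)

end Cfsg.Lib.Comp.L28x
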